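import Mathlib

/-!
# The field with four elements as codes, and packed vectors over it

The code `a + 2 b` stands for `a + b ω` with `ω² + ω + 1 = 0`.
-/

set_option autoImplicit false

namespace CfsgLib.LocalEvenB.CoTwoUnitary

/-- Addition. -/
def fadd (x y : Nat) : Nat := (x % 2 + y % 2) % 2 + 2 * ((x / 2 + y / 2) % 2)

/-- Multiplication. -/
def fmul (x y : Nat) : Nat :=
  (x % 2 * (y % 2) + x / 2 * (y / 2)) % 2 +
    2 * ((x % 2 * (y / 2) + x / 2 * (y % 2) + x / 2 * (y / 2)) % 2)

/-- Conjugation. -/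
def fconj (x : Nat) : Nat := (x % 2 + x / 2) % 2 + 2 * (x / 2 % 2)

/-- An entry of a packed vector. -/
def ent (v k : Nat) : Nat := v / 4 ^ k % 4

/-- The hermitian form. -/
def herm (u v : Nat) : Nat :=
  fadd (fadd (fadd (fadd (fadd (fmul (ent u 0) (fconj (ent v 0))) (fmul (ent u 1) (fconj (ent v 1))))
    (fmul (ent u 2) (fconj (ent v 2)))) (fmul (ent u 3) (fconj (ent v 3))))
    (fmul (ent u 4) (fconj (ent v 4)))) (fmul (ent u 5) (fconj (ent v 5)))

/-- An entry of the image under the transvection by `v`, the product with `v` given. -/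
def transv (v c x k : Nat) : Nat := fadd (ent x k) (fmul c (ent v k))

/-- An entry of a combination of three vectors. -/
def comb (a u b v c w k : Nat) : Nat :=
  fadd (fadd (fmul a (ent u k)) (fmul b (ent v k))) (fmul c (ent w k))

variable {F : Type*} [Field F]

/-- Decoding of a scalar. -/
def dec (r : F) (x : Nat) : F := ((x % 2 : ℕ) : F) + ((x / 2 : ℕ) : F) * r

/-- Decoding of a vector. -/
def toV (r : F) (v : Nat) : Fin 6 → F := fun i => dec r (ent v i.val)

theorem enc_mod (a b : ℕ) (ha : a < 2) : (a + 2 * b) % 2 = a ∧ (a + 2 * b) / 2 = b := by omega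

variable [CharP F 2] {r : F} (hr : r ^ 2 + r + 1 = 0)
include hr

theorem cast_mod (n : ℕ) : ((n % 2 : ℕ) : F) = n := (CharP.cast_eq_mod F 2 n).symm

theorem two_zero : (2 : F) = 0 := by simpa using (CharP.cast_eq_zero F 2)

theorem dec_fadd (x y : ℕ) : dec r (fadd x y) = dec r x + dec r y := by
  have h := enc_mod ((x % 2 + y % 2) % 2) ((x / 2 + y / 2) % 2) (Nat.mod_lt _ (by norm_num))
  rw [dec, fadd, h.1, h.2, cast_mod hr, cast_mod hr, dec, dec]
  push_cast
  ring

theorem dec_fmul (x y : ℕ) : dec r (fmul x y) = dec r x * dec r y := by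
  have h := enc_mod ((x % 2 * (y % 2) + x / 2 * (y / 2)) % 2)
    ((x % 2 * (y / 2) + x / 2 * (y % 2) + x / 2 * (y / 2)) % 2) (Nat.mod_lt _ (by norm_num))
  rw [dec, fmul, h.1, h.2, cast_mod hr, cast_mod hr, dec, dec]
  push_cast
  linear_combination -(((x / 2 : ℕ) : F) * ((y / 2 : ℕ) : F)) * hr +
    (((x / 2 : ℕ) : F) * ((y / 2 : ℕ) : F) * (1 + r)) * two_zero hr

theorem dec_fconj (x : ℕ) : dec r (fconj x) = dec r x ^ 2 := by
  have h := enc_mod ((x % 2 + x / 2) % 2) (x / 2 % 2) (Nat.mod_lt _ (by norm_num))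
  have : Fact (Nat.Prime 2) := ⟨by norm_num⟩
  rw [dec, fconj, h.1, h.2, cast_mod hr, cast_mod hr, dec]
  change _ = frobenius F 2 _
  rw [map_add, map_mul, map_natCast, map_natCast, frobenius_def]
  push_cast
  linear_combination -((x / 2 : ℕ) : F) * hr + (((x / 2 : ℕ) : F) * (1 + r)) * two_zero hr

theorem dec_zero : dec r 0 = 0 := by simp [dec]

theorem dec_one : dec r 1 = 1 := by simp [dec]

theorem dec_inj {x y : ℕ} (hx : x < 4) (hy : y < 4) (h : dec r x = dec r y) : x = y := by
  have h2 := two_zero hr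
  have h1 : (1 : F) ≠ 0 := one_ne_zero
  have hr0 : r ≠ 0 := fun e => by rw [e] at hr; simp at hr
  have hr1 : r ≠ 1 := fun e => h1 (by rw [e] at hr; linear_combination hr - h2)
  have hr2 : 1 + r ≠ 0 := fun e => hr1 (by linear_combination e - h2)
  interval_cases x <;> interval_cases y <;> simp [dec] at h ⊢
  all_goals
    first
      | exact absurd h hr0 | exact absurd h.symm hr0 | exact absurd h hr1 | exact absurd h.symm hr1
      | exact absurd h hr2 | exact absurd h.symm hr2

theorem dec_surjective [Fintype F] (hF : Fintype.card F = 4) (a : F) :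
    ∃ x < 4, dec r x = a := by
  have hinj : Function.Injective fun x : Fin 4 => dec r x.val := fun x y h =>
    Fin.ext (dec_inj hr x.isLt y.isLt h)
  obtain ⟨x, hx⟩ := ((Fintype.bijective_iff_injective_and_card _).2
    ⟨hinj, by rw [hF, Fintype.card_fin]⟩).2 a
  exact ⟨x.val, x.isLt, hx⟩

theorem toV_comb (a u b v c w : ℕ) (i : Fin 6) :
    dec r (comb a u b v c w i.val) =
      (dec r a • toV r u + dec r b • toV r v + dec r c • toV r w) i := by
  rw [comb, dec_fadd hr, dec_fadd hr, dec_fmul hr, dec_fmul hr, dec_fmul hr]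
  rfl

theorem dec_herm (u v : ℕ) : dec r (herm u v) =
    toV r u 0 * toV r v 0 ^ 2 + toV r u 1 * toV r v 1 ^ 2 + toV r u 2 * toV r v 2 ^ 2 +
      toV r u 3 * toV r v 3 ^ 2 + toV r u 4 * toV r v 4 ^ 2 + toV r u 5 * toV r v 5 ^ 2 := by
  simp only [herm, dec_fadd hr, dec_fmul hr, dec_fconj hr, toV]
  rfl

end CfsgLib.LocalEvenB.CoTwoUnitary
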