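import Cfsg.Agent.Lib.LocalEvenB.CoTwoUnitary.Data
import Cfsg.Agent.Lib.LocalEvenB.CoTwoUnitary.Field
import Cfsg.Agent.Lib.Sporadic.ConwayTwoSimple

/-!
# The checks of the tables
-/

set_option autoImplicit false
set_option maxRecDepth 100000
set_option Elab.async false

namespace CfsgLib.LocalEvenB.CoTwoUnitary

open CfsgLib.Sporadic.Conway Cfsg CfsgLib.ThreeTrans.Leech CfsgLib.Sporadic.Lattice

/-- Lookup in a table cut into blocks of thirty-three. -/
def look (L : List (List Nat)) (i : Nat) : Nat := (L.getD (i / 33) []).getD (i % 33) 0

/-- The image of a plane under a generator. -/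
def permAt (k a : Nat) : Nat := look (permTab.getD k []) a

/-- The packed second fixed vector. -/
def kNear : ℕ := 42255020007607646716556773572

/-- Whether a vector code is normalised. -/
def normalised (v : ℕ) : Bool :=
  ent v 0 == 1 || (ent v 0 == 0 && (ent v 1 == 1 || (ent v 1 == 0 && (ent v 2 == 1 || (ent v 2 == 0 &&
    (ent v 3 == 1 || (ent v 3 == 0 && (ent v 4 == 1 || (ent v 4 == 0 && ent v 5 == 1)))))))))

theorem points_complete : ((List.range 4096).all fun v =>
    !(normalised v && herm v v == 0) || pointsChunks.any fun l => l.contains v) = true := by
  decide +kernel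

theorem points_find : ((List.range 21).all fun c => (pointsChunks.getD c []).length == 33) = true ∧
    pointsChunks.length = 21 := by
  decide +kernel

/-- One edge of the tree of points. -/
def edgeOK (x : ℕ) : Bool :=
  x == root ||
    (let p := look parentChunks x
     let v := genVec.getD (p % 8) 0
     let q := look pointsChunks (p / 8)
     let s := look parentScalChunks x
     let y := look pointsChunks x
     let c := herm q v
     decide (look rankChunks (p / 8) < look rankChunks x) && decide (p % 8 < 6) &&
      decide (p / 8 < 693) && (s != 0) && decide (s < 4) &&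
      (List.range 6).all fun i => transv v c q i == fmul s (ent y i))

theorem edges_ok : ((List.range 693).all edgeOK) = true := by decide +kernel

theorem gen_ok : (∀ k < 6, herm (genVec.getD k 0) (genVec.getD k 0) = 0) ∧
    genVec.getD 0 0 = look pointsChunks root ∧ root < 693 := by
  decide +kernel

/-- One transition between planes. -/
def transOK (k a : ℕ) : Bool :=
  let v := genVec.getD k 0
  let t := look (transTab.getD k []) a
  let b := permAt k a
  let u0 := look planeAChunks b
  let u1 := look planeBChunks b
  let u2 := look planeCChunks b
  let x0 := look planeAChunks a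
  let x1 := look planeBChunks a
  let x2 := look planeCChunks a
  let c0 := herm x0 v
  let c1 := herm x1 v
  let c2 := herm x2 v
  decide (b < 891) &&
    (List.range 6).all fun i =>
      transv v c0 x0 i == comb (t % 4) u0 (t / 4 % 4) u1 (t / 16 % 4) u2 i &&
        transv v c1 x1 i == comb (t / 64 % 4) u0 (t / 256 % 4) u1 (t / 1024 % 4) u2 i &&
          transv v c2 x2 i == comb (t / 4096 % 4) u0 (t / 16384 % 4) u1 (t / 65536) u2 i

/-- A plane is totally isotropic. -/
def isoOK (a : ℕ) : Bool :=
  let x := look planeAChunks a
  let y := look planeBChunks a
  let z := look planeCChunks a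
  herm x x == 0 && herm x y == 0 && herm x z == 0 && herm y x == 0 && herm y y == 0 &&
    herm y z == 0 && herm z x == 0 && herm z y == 0 && herm z z == 0

theorem planes_isotropic : ((List.range 891).all isoOK) = true := by decide +kernel

/-- Some product between two planes is not zero. -/
def apart (a b : ℕ) : Bool :=
  let x := look planeAChunks a
  let y := look planeBChunks a
  let z := look planeCChunks a
  let u := look planeAChunks b
  let v := look planeBChunks b
  let w := look planeCChunks b
  herm x u != 0 || herm x v != 0 || herm x w != 0 || herm y u != 0 || herm y v != 0 ||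
    herm y w != 0 || herm z u != 0 || herm z v != 0 || herm z w != 0

theorem perm_moves : ∃ a < 891, apart a (permAt 0 a) = true := by
  have h : ((List.range 891).any fun a => apart a (permAt 0 a)) = true := by decide +kernel
  obtain ⟨a, ha, h'⟩ := List.any_eq_true.1 h
  exact ⟨a, List.mem_range.1 ha, h'⟩

theorem words_valid : ((List.range 6).all fun k => (wordTab.getD k []).all stepValid &&
    [kPair, kNear].all fun f => decide (evalWord (wordTab.getD k []) f = some f)) = true := by
  decide +kernel

/-- One step of a word. -/
noncomputable def stepOK (k a : ℕ) : Bool :=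
  decide (evalWord (wordTab.getD k []) (look ptsChunks a) = some (look ptsChunks (permAt k a)))

theorem of_three_blocks (f : ℕ → Bool)
    (h0 : ((List.range 297).all fun a => f (0 + a)) = true)
    (h1 : ((List.range 297).all fun a => f (297 + a)) = true)
    (h2 : ((List.range 297).all fun a => f (594 + a)) = true) (a : ℕ) (ha : a < 891) :
    f a = true := by
  rcases (show a < 297 ∨ (297 ≤ a ∧ a < 594) ∨ 594 ≤ a by omega) with h | h | h
  · simpa using List.all_eq_true.1 h0 a (List.mem_range.2 h)
  · have := List.all_eq_true.1 h1 (a - 297) (List.mem_range.2 (by omega))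
    rwa [show 297 + (a - 297) = a by omega] at this
  · have := List.all_eq_true.1 h2 (a - 594) (List.mem_range.2 (by omega))
    rwa [show 594 + (a - 594) = a by omega] at this

end CfsgLib.LocalEvenB.CoTwoUnitary
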