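import Cfsg.Agent.Lib.LocalEvenB.CoTwoUnitary.Check

/-!
# The 891 vectors
-/

set_option autoImplicit false
set_option maxRecDepth 100000
set_option Elab.async false

namespace CfsgLib.LocalEvenB.CoTwoUnitary

open CfsgLib.Sporadic.Conway Cfsg CfsgLib.ThreeTrans.Leech CfsgLib.Sporadic.Lattice

theorem pts_sorted : ((List.range 891).all fun a => decide (look ptsChunks a < 2 ^ 96) &&
    (a == 890 || decide (look ptsChunks a < look ptsChunks (a + 1)))) = true := by
  decide +kernel

/-- The conditions on one vector. -/
noncomputable def ptOK (a : ℕ) : Bool :=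
  decide (LTest (pv (look ptsChunks a)) ∧ sqNorm (pv (look ptsChunks a)) = 32 ∧
    dotInt (pv kPair) (pv (look ptsChunks a)) = -16 ∧
      dotInt (pv kNear) (pv (look ptsChunks a)) = 0)

theorem pts_spec_0 : ((List.range 297).all fun a => ptOK (0 + a)) = true := by
  decide +kernel

theorem pts_spec_1 : ((List.range 297).all fun a => ptOK (297 + a)) = true := by
  decide +kernel

theorem pts_spec_2 : ((List.range 297).all fun a => ptOK (594 + a)) = true := by
  decide +kernel

theorem pts_spec (a : ℕ) (ha : a < 891) : ptOK a = true :=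
  of_three_blocks _ pts_spec_0 pts_spec_1 pts_spec_2 a ha

end CfsgLib.LocalEvenB.CoTwoUnitary
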