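import Cfsg.Agent.Lib.LocalEvenB.CoTwoUnitary.Check

/-!
# Three words permute the vectors
-/

set_option autoImplicit false
set_option maxRecDepth 100000
set_option Elab.async false

namespace CfsgLib.LocalEvenB.CoTwoUnitary

open CfsgLib.Sporadic.Conway Cfsg CfsgLib.ThreeTrans.Leech CfsgLib.Sporadic.Lattice

theorem step_zero_0 : ((List.range 297).all fun a => stepOK 0 (0 + a)) = true := by
  decide +kernel

theorem step_zero_1 : ((List.range 297).all fun a => stepOK 0 (297 + a)) = true := by
  decide +kernel

theorem step_zero_2 : ((List.range 297).all fun a => stepOK 0 (594 + a)) = true := by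
  decide +kernel

theorem step_zero (a : ℕ) (ha : a < 891) : stepOK 0 a = true :=
  of_three_blocks _ step_zero_0 step_zero_1 step_zero_2 a ha

theorem step_one_0 : ((List.range 297).all fun a => stepOK 1 (0 + a)) = true := by
  decide +kernel

theorem step_one_1 : ((List.range 297).all fun a => stepOK 1 (297 + a)) = true := by
  decide +kernel

theorem step_one_2 : ((List.range 297).all fun a => stepOK 1 (594 + a)) = true := by
  decide +kernel

theorem step_one (a : ℕ) (ha : a < 891) : stepOK 1 a = true :=
  of_three_blocks _ step_one_0 step_one_1 step_one_2 a ha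

theorem step_two_0 : ((List.range 297).all fun a => stepOK 2 (0 + a)) = true := by
  decide +kernel

theorem step_two_1 : ((List.range 297).all fun a => stepOK 2 (297 + a)) = true := by
  decide +kernel

theorem step_two_2 : ((List.range 297).all fun a => stepOK 2 (594 + a)) = true := by
  decide +kernel

theorem step_two (a : ℕ) (ha : a < 891) : stepOK 2 a = true :=
  of_three_blocks _ step_two_0 step_two_1 step_two_2 a ha

end CfsgLib.LocalEvenB.CoTwoUnitary
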