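import Cfsg.Agent.Lib.LocalEvenB.CoTwoUnitary.Check

/-!
# Three more words permute the vectors
-/

set_option autoImplicit false
set_option maxRecDepth 100000
set_option Elab.async false

namespace CfsgLib.LocalEvenB.CoTwoUnitary

open CfsgLib.Sporadic.Conway Cfsg CfsgLib.ThreeTrans.Leech CfsgLib.Sporadic.Lattice

theorem step_three_0 : ((List.range 297).all fun a => stepOK 3 (0 + a)) = true := by
  decide +kernel

theorem step_three_1 : ((List.range 297).all fun a => stepOK 3 (297 + a)) = true := by
  decide +kernel

theorem step_three_2 : ((List.range 297).all fun a => stepOK 3 (594 + a)) = true := by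
  decide +kernel

theorem step_three (a : ℕ) (ha : a < 891) : stepOK 3 a = true :=
  of_three_blocks _ step_three_0 step_three_1 step_three_2 a ha

theorem step_four_0 : ((List.range 297).all fun a => stepOK 4 (0 + a)) = true := by
  decide +kernel

theorem step_four_1 : ((List.range 297).all fun a => stepOK 4 (297 + a)) = true := by
  decide +kernel

theorem step_four_2 : ((List.range 297).all fun a => stepOK 4 (594 + a)) = true := by
  decide +kernel

theorem step_four (a : ℕ) (ha : a < 891) : stepOK 4 a = true :=
  of_three_blocks _ step_four_0 step_four_1 step_four_2 a ha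

theorem step_five_0 : ((List.range 297).all fun a => stepOK 5 (0 + a)) = true := by
  decide +kernel

theorem step_five_1 : ((List.range 297).all fun a => stepOK 5 (297 + a)) = true := by
  decide +kernel

theorem step_five_2 : ((List.range 297).all fun a => stepOK 5 (594 + a)) = true := by
  decide +kernel

theorem step_five (a : ℕ) (ha : a < 891) : stepOK 5 a = true :=
  of_three_blocks _ step_five_0 step_five_1 step_five_2 a ha

end CfsgLib.LocalEvenB.CoTwoUnitary
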