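import Cfsg.Agent.Lib.LocalEvenB.CoTwoUnitary.Check

/-!
# The transitions between planes
-/

set_option autoImplicit false
set_option maxRecDepth 100000
set_option Elab.async false

namespace CfsgLib.LocalEvenB.CoTwoUnitary

open CfsgLib.Sporadic.Conway Cfsg CfsgLib.ThreeTrans.Leech CfsgLib.Sporadic.Lattice

theorem trans_zero : ((List.range 891).all fun a => transOK 0 a) = true := by decide +kernel

theorem trans_one : ((List.range 891).all fun a => transOK 1 a) = true := by decide +kernel

theorem trans_two : ((List.range 891).all fun a => transOK 2 a) = true := by decide +kernel

theorem trans_three : ((List.range 891).all fun a => transOK 3 a) = true := by decide +kernel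

theorem trans_four : ((List.range 891).all fun a => transOK 4 a) = true := by decide +kernel

theorem trans_five : ((List.range 891).all fun a => transOK 5 a) = true := by decide +kernel

end CfsgLib.LocalEvenB.CoTwoUnitary
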