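import Cfsg.Agent.Lib.LocalEvenB.CoTwoUnitary.Planes
import Cfsg.Agent.Lib.LocalEvenB.CoTwoUnitary.CheckStepA
import Cfsg.Agent.Lib.LocalEvenB.CoTwoUnitary.CheckStepB
import Cfsg.Agent.Lib.LocalEvenB.CoTwoUnitary.CheckPts

/-!
# The stabiliser of two vectors is PSU₆(2)
-/

set_option autoImplicit false

namespace CfsgLib.LocalEvenB.CoTwoUnitary

open Cfsg CfsgLib.Sporadic.Conway CfsgLib.ThreeTrans.Leech CfsgLib.Sporadic.Lattice MulAction

theorem tab_invol : ((List.range 6).all fun k => (List.range 891).all fun a =>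
    permAt k (permAt k a) == a) = true := by
  decide +kernel

theorem tab_tab (k : Fin 6) (a : Fin 891) : tab k (tab k a) = a :=
  Fin.ext (beq_iff_eq.1 (List.all_eq_true.1 (List.all_eq_true.1 tab_invol k.val
    (List.mem_range.2 k.isLt)) a.val (List.mem_range.2 a.isLt)))

theorem step_ok (k : Fin 6) (a : Fin 891) : stepOK k.val a.val = true := by
  fin_cases k
  · exact step_zero a.val a.isLt
  · exact step_one a.val a.isLt
  · exact step_two a.val a.isLt
  · exact step_three a.val a.isLt
  · exact step_four a.val a.isLt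
  · exact step_five a.val a.isLt

/-- The stabiliser. -/
noncomputable def stab : Subgroup ↥Co0 := fixGroup [nearPt, pairElt]

theorem card_stab : Nat.card ↥stab = 9196830720 := by
  have h := card_fix (f := [pairElt]) (ks := [(pairElt, (-16 : ℤ))]) (r := nearPt) (by simp)
    nearPt_mem near_set.2.1
  rw [card_fix_pair, near_set.1] at h
  show Nat.card ↥(fixGroup [nearPt, pairElt]) = 9196830720
  omega

/-- The 891 vectors. -/
noncomputable def points891 : Set ↥leechLattice := DS [(pairElt, (-16 : ℤ)), (nearPt, 0)]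

theorem pts_fact (a : Fin 891) : LTest (pv (look ptsChunks a.val)) ∧
    sqNorm (pv (look ptsChunks a.val)) = 32 ∧
      dotInt (pv kPair) (pv (look ptsChunks a.val)) = -16 ∧
        dotInt (pv kNear) (pv (look ptsChunks a.val)) = 0 :=
  of_decide_eq_true (pts_spec a.val a.isLt)

/-- One of them. -/
noncomputable def pt' (a : Fin 891) : ↥leechLattice :=
  ⟨pv (look ptsChunks a.val), pv_mem (pts_fact a).1⟩

theorem pt'_mem (a : Fin 891) : pt' a ∈ points891 := by
  obtain ⟨-, h1, h2, h3⟩ := pts_fact a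
  refine ⟨h1, ?_⟩
  simp only [List.forall_mem_cons]
  exact ⟨h2, h3, by simp⟩

theorem pt'_injective : Function.Injective pt' := by
  have hs : ∀ a < 891, look ptsChunks a < 2 ^ 96 ∧
      (a ≠ 890 → look ptsChunks a < look ptsChunks (a + 1)) := fun a ha => by
    have h := List.all_eq_true.1 pts_sorted a (List.mem_range.2 ha)
    simp only [Bool.and_eq_true, Bool.or_eq_true, decide_eq_true_eq, beq_iff_eq] at h
    exact ⟨h.1, fun hne => h.2.resolve_left hne⟩
  have hm : ∀ i j, i < j → j < 891 → look ptsChunks i < look ptsChunks j := by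
    intro i j hij
    induction j, hij using Nat.le_induction with
    | base => intro hj; exact (hs i (by omega)).2 (by omega)
    | succ n hn ih => intro hj; exact (ih (by omega)).trans ((hs n (by omega)).2 (by omega))
  intro a b h
  have h1 := pv_inj (hs a.val a.isLt).1 (hs b.val b.isLt).1 (congrArg Subtype.val h)
  rcases lt_trichotomy a.val b.val with h' | h' | h'
  · exact absurd h1 (hm _ _ h' b.isLt).ne
  · exact Fin.ext h'
  · exact absurd h1 (hm _ _ h' a.isLt).ne'

theorem range_pt' : Set.range pt' = points891 := by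
  have h2 : points891.ncard = 891 := by
    rw [points891, (near_subs 0 (by simp)).1]
    norm_num
  refine Set.eq_of_subset_of_ncard_le (by rintro _ ⟨i, rfl⟩; exact pt'_mem i) ?_
    (DS_finite List.mem_cons_self)
  rw [Set.ncard_range_of_injective pt'_injective, Nat.card_fin, h2]

theorem stab_smul_mem (g : ↥stab) {x : ↥leechLattice} (hx : x ∈ points891) :
    (g : ↥Co0) • x ∈ points891 := by
  refine smul_mem_DS (fun p hp => ?_) hx
  have hg := mem_fixGroup.1 g.2
  simp only [List.mem_cons, List.not_mem_nil, or_false] at hp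
  rcases hp with rfl | rfl <;> exact hg _ (by simp)

/-- The labelling of the vectors. -/
noncomputable def label : Fin 891 ≃ points891 :=
  Equiv.ofBijective (fun i => ⟨pt' i, pt'_mem i⟩)
    ⟨fun i j h => pt'_injective (congrArg Subtype.val h), fun x => by
      obtain ⟨i, hi⟩ := range_pt'.symm.le x.2
      exact ⟨i, Subtype.ext hi⟩⟩

/-- The permutation of the vectors by an element of the stabiliser. -/
noncomputable def perm' (g : ↥stab) : Equiv.Perm points891 where
  toFun x := ⟨(g : ↥Co0) • x.1, stab_smul_mem g x.2⟩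
  invFun x := ⟨((g⁻¹ : ↥stab) : ↥Co0) • x.1, stab_smul_mem g⁻¹ x.2⟩
  left_inv x := Subtype.ext (inv_smul_smul (g : ↥Co0) x.1)
  right_inv x := Subtype.ext (smul_inv_smul (g : ↥Co0) x.1)

/-- The permutation representation of the stabiliser. -/
noncomputable def rep : ↥stab →* Equiv.Perm (Fin 891) where
  toFun g := label.symm.permCongr (perm' g)
  map_one' := Equiv.ext fun i => by
    simp only [Equiv.permCongr_apply, Equiv.symm_symm, Equiv.Perm.one_apply]
    rw [Equiv.symm_apply_eq]
    exact Subtype.ext (one_smul _ _)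
  map_mul' a b := Equiv.ext fun i => by
    simp only [Equiv.permCongr_apply, Equiv.symm_symm, Equiv.Perm.mul_apply,
      Equiv.apply_symm_apply]
    congr 1

theorem exists_word_elt (k : Fin 6) : ∃ g : ↥stab, ∀ a : Fin 891, rep g a = tab k a := by
  have h := List.all_eq_true.1 words_valid k.val (List.mem_range.2 k.isLt)
  rw [Bool.and_eq_true] at h
  obtain ⟨g, hg⟩ := packElt (wordTab.getD k.val []) h.1
  have hfix : ∀ c ∈ [kPair, kNear], ∀ v : ↥leechLattice, (v : Vec) = pv c → g • v = v :=
    fun c hc v hv => Subtype.ext ((hg c c (of_decide_eq_true (List.all_eq_true.1 h.2 c hc)) v hv).trans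
      hv.symm)
  have hmem : g ∈ stab := by
    refine mem_fixGroup.2 fun v hv => ?_
    simp only [List.mem_cons, List.not_mem_nil, or_false] at hv
    rcases hv with rfl | rfl
    · exact hfix kNear (by simp) _ rfl
    · exact hfix kPair (by simp) _ rfl
  refine ⟨⟨g, hmem⟩, fun a => ?_⟩
  show label.symm.permCongr (perm' ⟨g, hmem⟩) a = _
  rw [Equiv.permCongr_apply, Equiv.symm_apply_eq, Equiv.symm_symm]
  exact Subtype.ext (Subtype.ext (hg _ _ (of_decide_eq_true (step_ok k a)) (pt' a) rfl))

variable {F : Type} [Field F] [Fintype F] [CharP F 2] {r : F}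

/-- The linear element and the permutation move the planes alike. -/
def Compat (r : F) (g : Cfsg.SU 6 F 2) (p : Equiv.Perm (Fin 891)) : Prop :=
  ∀ a, (plane r a).map (Matrix.mulVecLin (mat g)) = plane r (p a)

omit [Fintype F] [CharP F 2] in
theorem compat_one : Compat r 1 1 := fun a => by
  rw [mat_one, Matrix.mulVecLin_one, Submodule.map_id, Equiv.Perm.one_apply]

omit [Fintype F] [CharP F 2] in
theorem compat_mul {g h : Cfsg.SU 6 F 2} {p q : Equiv.Perm (Fin 891)} (hg : Compat r g p)
    (hh : Compat r h q) : Compat r (g * h) (p * q) := fun a => by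
  rw [mat_mul, Matrix.mulVecLin_mul, Submodule.map_comp, hh, hg, Equiv.Perm.mul_apply]

theorem exists_compat (hr : r ^ 2 + r + 1 = 0) (hF : Fintype.card F = 4) (g : Cfsg.SU 6 F 2) :
    ∃ p : rep.range, Compat r g p.1 := by
  have hg : g ∈ gens hr hF := by rw [gens_top]; trivial
  rw [gens, ← Subgroup.mem_toSubmonoid, Subgroup.closure_toSubmonoid_of_finite] at hg
  induction hg using Submonoid.closure_induction with
  | mem z hz =>
    obtain ⟨k, rfl⟩ := hz
    obtain ⟨s, hs⟩ := exists_word_elt k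
    refine ⟨⟨rep s, s, rfl⟩, fun a => ?_⟩
    rw [gen_plane hr hF k a (tab_tab k a)]
    exact congrArg (plane r) (hs a).symm
  | one => exact ⟨1, compat_one⟩
  | mul x y _ _ ihx ihy =>
    obtain ⟨p, hp⟩ := ihx
    obtain ⟨q, hq⟩ := ihy
    exact ⟨p * q, compat_mul hp hq⟩

theorem card_psu (hF : Fintype.card F = 4) : Nat.card (Cfsg.PSU 6 F 2) = 9196830720 := by
  have hP := CfsgLib.Classical.Herm.card_PSU (show Fintype.card F = 2 ^ 2 from hF) 6 (by norm_num)
  norm_num [Finset.prod_range_succ, Nat.even_iff] at hP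
  omega

/-- The elements fixing every plane. -/
def fixer (r : F) : Subgroup (Cfsg.SU 6 F 2) where
  carrier := {g | ∀ a, (plane r a).map (Matrix.mulVecLin (mat g)) = plane r a}
  mul_mem' {g h} hg hh a := by
    rw [mat_mul, Matrix.mulVecLin_mul, Submodule.map_comp, hh, hg]
  one_mem' a := by rw [mat_one, Matrix.mulVecLin_one, Submodule.map_id]
  inv_mem' {g} hg a := by
    conv_lhs => rw [← hg a]
    rw [← Submodule.map_comp, ← Matrix.mulVecLin_mul, ← mat_mul, inv_mul_cancel, mat_one,
      Matrix.mulVecLin_one, Submodule.map_id]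

theorem fixer_eq (hr : r ^ 2 + r + 1 = 0) (hF : Fintype.card F = 4) :
    fixer r = Subgroup.center (Cfsg.SU 6 F 2) := by
  have hF2 : Fintype.card F = 2 ^ 2 := hF
  have hsimp : IsSimpleGroup (Cfsg.PSU 6 F 2) :=
    CfsgLib.Classical.Herm.isSimpleGroup_PSU' hF2 6 (by norm_num) (by norm_num)
  -- scalars
  have hr3 : r ^ 3 = 1 := by linear_combination (r - 1) * hr
  have hr0 : r ≠ 0 := fun e => by rw [e] at hr3; simp at hr3
  have hz : ∀ e : Fin 3, ∃ z : Cfsg.SU 6 F 2,
      mat z = r ^ e.val • (1 : Matrix (Fin 6) (Fin 6) F) := by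
    intro e
    refine ⟨⟨⟨r ^ e.val • (1 : Matrix (Fin 6) (Fin 6) F), by
      rw [Matrix.det_smul, Matrix.det_one, mul_one, Fintype.card_fin, ← pow_mul, mul_comm,
        show (6 : ℕ) = 3 * 2 from rfl, mul_assoc, pow_mul, hr3, one_pow]⟩, ?_⟩, rfl⟩
    intro u v
    change Cfsg.hermForm 6 F 2 ((r ^ e.val • (1 : Matrix (Fin 6) (Fin 6) F)).mulVec u)
      ((r ^ e.val • (1 : Matrix (Fin 6) (Fin 6) F)).mulVec v) = _
    rw [Matrix.smul_mulVec, Matrix.smul_mulVec, Matrix.one_mulVec, Matrix.one_mulVec]
    simp only [Cfsg.hermForm, Pi.smul_apply, smul_eq_mul, mul_pow]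
    refine Finset.sum_congr rfl fun j _ => ?_
    have : r ^ e.val * (r ^ e.val) ^ 2 = 1 := by
      rw [← pow_succ', ← pow_mul, mul_comm, pow_mul, hr3, one_pow]
    linear_combination (u j * v j ^ 2) * this
  choose z hz using hz
  have hzmem : ∀ e, z e ∈ Subgroup.center (Cfsg.SU 6 F 2) := fun e =>
    Subgroup.mem_center_iff.2 fun x => mat_inj (by rw [mat_mul, mat_mul, hz]; simp)
  have hinj : Function.Injective fun e => (⟨z e, hzmem e⟩ : Subgroup.center (Cfsg.SU 6 F 2)) := by
    intro e f h
    have h1 := congrArg (fun w : Subgroup.center (Cfsg.SU 6 F 2) => mat w.1 0 0) h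
    simp only [hz, Matrix.smul_apply, Matrix.one_apply_eq, smul_eq_mul, mul_one] at h1
    have hd : ∀ n, n < 3 → r ^ n = dec r ([1, 2, 3].getD n 0) := by
      intro n hn
      interval_cases n
      · simp [dec_one hr]
      · simp [dec]
      · simp [dec]; linear_combination hr - (1 + r) * two_zero hr
    have key : ∀ a b : ℕ, a < 3 → b < 3 → r ^ a = r ^ b → a = b := by
      intro a b ha hb hab
      rw [hd a ha, hd b hb] at hab
      have := dec_inj hr (by interval_cases a <;> norm_num) (by interval_cases b <;> norm_num) hab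
      interval_cases a <;> interval_cases b <;> simp at this ⊢
    exact Fin.ext (key _ _ e.isLt f.isLt h1)
  have hcard : Nat.card (Subgroup.center (Cfsg.SU 6 F 2)) = 3 :=
    CfsgLib.Classical.Herm.card_center_SU hF2 6 (by norm_num)
  have hbij : Function.Bijective fun e => (⟨z e, hzmem e⟩ : Subgroup.center (Cfsg.SU 6 F 2)) :=
    hinj.bijective_of_nat_card_le (by rw [hcard, Nat.card_fin])
  have hle : Subgroup.center (Cfsg.SU 6 F 2) ≤ fixer r := by
    intro w hw a
    obtain ⟨e, he⟩ := hbij.2 ⟨w, hw⟩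
    have hwz : w = z e := (congrArg Subtype.val he).symm
    have hmv : ∀ y : Fin 6 → F, (mat w).mulVec y = r ^ e.val • y := fun y => by
      rw [hwz, hz, Matrix.smul_mulVec, Matrix.one_mulVec]
    refine le_antisymm ?_ fun y hy => ?_
    · rintro _ ⟨y, hy, rfl⟩
      rw [Matrix.mulVecLin_apply, hmv]
      exact Submodule.smul_mem _ _ hy
    · refine ⟨(r ^ e.val)⁻¹ • y, Submodule.smul_mem _ _ hy, ?_⟩
      rw [Matrix.mulVecLin_apply, hmv, smul_smul, mul_inv_cancel₀ (pow_ne_zero _ hr0), one_smul]
  have hnormal : (fixer r).Normal := ⟨fun n hn g a => by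
    obtain ⟨p, hp⟩ := exists_compat hr hF g⁻¹
    rw [mat_mul, mat_mul, Matrix.mulVecLin_mul, Matrix.mulVecLin_mul, Submodule.map_comp,
      Submodule.map_comp, hp, hn, ← hp, ← Submodule.map_comp, ← Matrix.mulVecLin_mul, ← mat_mul,
      mul_inv_cancel, mat_one, Matrix.mulVecLin_one, Submodule.map_id]⟩
  have hmk : Function.Surjective (QuotientGroup.mk' (Subgroup.center (Cfsg.SU 6 F 2))) :=
    QuotientGroup.mk'_surjective _
  have hn' : ((fixer r).map (QuotientGroup.mk' (Subgroup.center (Cfsg.SU 6 F 2)))).Normal :=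
    hnormal.map _ hmk
  rcases hn'.eq_bot_or_eq_top with h | h
  · refine le_antisymm ?_ hle
    rw [Subgroup.map_eq_bot_iff, QuotientGroup.ker_mk'] at h
    exact h
  · exfalso
    have hall : fixer r = ⊤ := by
      rw [← Subgroup.comap_map_eq_self (f := QuotientGroup.mk' (Subgroup.center (Cfsg.SU 6 F 2)))
        (H := fixer r) (by rw [QuotientGroup.ker_mk']; exact hle), h, Subgroup.comap_top]
    obtain ⟨a, ha, hap⟩ := perm_moves
    have hmem : gen hr hF 0 ∈ fixer r := by rw [hall]; trivial
    have heq := hmem ⟨a, ha⟩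
    rw [gen_plane hr hF 0 _ (tab_tab 0 _)] at heq
    have hiso := List.all_eq_true.1 planes_isotropic a (List.mem_range.2 ha)
    simp only [isoOK, Bool.and_eq_true, beq_iff_eq] at hiso
    have hz0 : ∀ u w, toV r u ∈ plane r ⟨a, ha⟩ → toV r w ∈ plane r (tab 0 ⟨a, ha⟩) →
        dec r (herm u w) = 0 := by
      intro u w hu hw
      rw [heq] at hw
      rw [form_toV hr]
      obtain ⟨p1, p2, p3, e1⟩ := Submodule.mem_span_triple.1 hu
      obtain ⟨q1, q2, q3, e2⟩ := Submodule.mem_span_triple.1 hw
      rw [← e1, ← e2, ← CfsgLib.Classical.Herm.hermStd_apply hF2]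
      simp only [map_add, LinearMap.add_apply, CfsgLib.Classical.Herm.smul_left,
        CfsgLib.Classical.Herm.smul_right, CfsgLib.Classical.Herm.hermStd_apply, ← form_toV hr,
        hiso, dec_zero hr, mul_zero, add_zero]
    have mA : ∀ c : Fin 891, toV r (look planeAChunks c.val) ∈ plane r c :=
      fun c => Submodule.subset_span (Or.inl rfl)
    have mB : ∀ c : Fin 891, toV r (look planeBChunks c.val) ∈ plane r c :=
      fun c => Submodule.subset_span (Or.inr (Or.inl rfl))
    have mC : ∀ c : Fin 891, toV r (look planeCChunks c.val) ∈ plane r c :=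
      fun c => Submodule.subset_span (Or.inr (Or.inr rfl))
    have z0 : ∀ u w, toV r u ∈ plane r ⟨a, ha⟩ → toV r w ∈ plane r (tab 0 ⟨a, ha⟩) →
        herm u w = 0 := fun u w hu hw =>
      dec_inj hr (by unfold herm fadd; omega) (by norm_num) (by rw [hz0 u w hu hw, dec_zero hr])
    simp only [apart, Bool.or_eq_true, bne_iff_ne] at hap
    rcases hap with ((((((((h | h) | h) | h) | h) | h) | h) | h) | h)
    · exact h (z0 _ _ (mA _) (mA _))
    · exact h (z0 _ _ (mA _) (mB _))
    · exact h (z0 _ _ (mA _) (mC _))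
    · exact h (z0 _ _ (mB _) (mA _))
    · exact h (z0 _ _ (mB _) (mB _))
    · exact h (z0 _ _ (mB _) (mC _))
    · exact h (z0 _ _ (mC _) (mA _))
    · exact h (z0 _ _ (mC _) (mB _))
    · exact h (z0 _ _ (mC _) (mC _))

omit [Fintype F] [CharP F 2] in
theorem compat_unique {g h : Cfsg.SU 6 F 2} {p : Equiv.Perm (Fin 891)} (hg : Compat r g p)
    (hh : Compat r h p) : g⁻¹ * h ∈ fixer r := fun a => by
  rw [mat_mul, Matrix.mulVecLin_mul, Submodule.map_comp, hh, ← hg, ← Submodule.map_comp,
    ← Matrix.mulVecLin_mul, ← mat_mul, inv_mul_cancel, mat_one, Matrix.mulVecLin_one,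
    Submodule.map_id]

theorem stab_iso (F : Type) [Field F] [Fintype F] (hF : Fintype.card F = 4) :
    Nonempty (↥stab ≃* Cfsg.PSU 6 F 2) := by
  obtain ⟨hp2, r, hr⟩ : CharP F 2 ∧ ∃ r : F, r ^ 2 + r + 1 = 0 := by
    obtain ⟨p, hp⟩ := CharP.exists F
    obtain ⟨n, hpr, hcard⟩ := FiniteField.card F p
    have hp2 : p = 2 := by
      have h1 : p ∣ 2 ^ 2 := by
        rw [show (2 : ℕ) ^ 2 = Fintype.card F by rw [hF]; norm_num, hcard]
        exact dvd_pow_self p n.ne_zero
      exact (Nat.prime_dvd_prime_iff_eq hpr (by norm_num)).1 (hpr.dvd_of_dvd_pow h1)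
    subst hp2
    refine ⟨hp, ?_⟩
    obtain ⟨a, ha0, ha1⟩ : ∃ a : F, a ≠ 0 ∧ a ≠ 1 := by
      classical
      obtain ⟨a, ha⟩ : ∃ a, a ∉ ({0, 1} : Finset F) := by
        by_contra hall
        push Not at hall
        have h1 := Finset.card_le_card (s := Finset.univ) (t := ({0, 1} : Finset F)) fun x _ => hall x
        rw [Finset.card_univ, hF] at h1
        have h2 : ({0, 1} : Finset F).card ≤ 2 := Finset.card_le_two
        omega
      simp at ha
      exact ⟨a, ha.1, ha.2⟩
    have h3 := cube_eq_one hF ha0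
    refine ⟨a, mul_left_cancel₀ (sub_ne_zero.2 ha1) ?_⟩
    linear_combination h3
  have hfin : Finite ↥stab := Nat.finite_of_card_ne_zero (by rw [card_stab]; norm_num)
  have hsurjP : ∀ q : Cfsg.PSU 6 F 2, ∃ (g : Cfsg.SU 6 F 2) (p : rep.range),
      QuotientGroup.mk g = q ∧ Compat r g p.1 := fun q => by
    obtain ⟨g, rfl⟩ := QuotientGroup.mk_surjective q
    obtain ⟨p, hp⟩ := exists_compat hr hF g
    exact ⟨g, p, rfl, hp⟩
  choose gg ff hgg hff using hsurjP
  have huniq : ∀ {g h : Cfsg.SU 6 F 2} {p : Equiv.Perm (Fin 891)}, Compat r g p → Compat r h p →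
      (QuotientGroup.mk g : Cfsg.PSU 6 F 2) = QuotientGroup.mk h := fun hg hh => by
    rw [QuotientGroup.eq, ← fixer_eq hr hF]
    exact compat_unique hg hh
  have hinj : Function.Injective ff := fun a b hab => by
    rw [← hgg a, ← hgg b]
    exact huniq (hff a) (hab ▸ hff b)
  have hsurj := rep.rangeRestrict_surjective
  have hle : Nat.card rep.range ≤ 9196830720 := by
    rw [← card_stab]; exact Nat.card_le_card_of_surjective _ hsurj
  have hbij : Function.Bijective ff := hinj.bijective_of_nat_card_le (by rw [card_psu hF]; exact hle)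
  have hmul : ∀ a b, ff (a * b) = ff a * ff b := by
    intro a b
    obtain ⟨c, hc⟩ := hbij.2 (ff a * ff b)
    have e := huniq (hff c) (show Compat r (gg a * gg b) (ff c).1 by
      rw [hc]; exact compat_mul (hff a) (hff b))
    rw [hgg, QuotientGroup.mk_mul, hgg, hgg] at e
    rw [← e, hc]
  have hbijR : Function.Bijective rep.rangeRestrict := hsurj.bijective_of_nat_card_le (by
    rw [card_stab, ← card_psu hF]
    exact Nat.card_le_card_of_injective ff hinj)
  exact ⟨(MulEquiv.ofBijective _ hbijR).trans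
    (MulEquiv.ofBijective (MonoidHom.mk' ff hmul) hbij).symm⟩

theorem co2_two_vectors (v w : ↥leechLattice) (hv : sqNorm (v : Vec) = 32)
    (hw : sqNorm (w : Vec) = 32) (hd : dotInt (v : Vec) (w : Vec) = -16)
    (F : Type) [Field F] [Fintype F] (hF : Fintype.card F = 4) :
    Nonempty (↥(stabilizer ↥Co0 v ⊓ stabilizer ↥Co0 w) ≃* Cfsg.PSU 6 F 2) := by
  obtain ⟨a, ha⟩ := to_pair hv
  have hax : a • w ∈ DS [(pairElt, (-16 : ℤ))] := by
    refine ⟨(norm_smul' a w).trans hw, ?_⟩
    simp only [List.forall_mem_cons, List.not_mem_nil, false_imp_iff, implies_true, and_true,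
      ← ha, dot_smul']
    exact hd
  obtain ⟨g, hg, hgf⟩ := near_set.2.1 _ hax _ nearPt_mem
  have key : ∀ (c : ↥Co0) (p p' : ↥leechLattice), (g * a) • p = p' →
      (((g * a) * c * (g * a)⁻¹) • p' = p' ↔ c • p = p) := by
    intro c p p' h
    subst h
    rw [mul_smul, mul_smul, inv_smul_smul, smul_left_cancel_iff]
  have e1 : (g * a) • v = pairElt := by rw [mul_smul, ha, hgf _ (by simp)]
  have e2 : (g * a) • w = nearPt := by rw [mul_smul, hg]
  have e : stabilizer ↥Co0 v ⊓ stabilizer ↥Co0 w = stab.comap (MulAut.conj (g * a)).toMonoidHom := by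
    ext c
    simp only [Subgroup.mem_inf, MulAction.mem_stabilizer_iff, Subgroup.mem_comap, stab,
      mem_fixGroup, List.forall_mem_cons, List.not_mem_nil, false_imp_iff, implies_true,
      and_true, MulEquiv.coe_toMonoidHom, MulAut.conj_apply]
    rw [key c _ _ e1, key c _ _ e2]
    tauto
  obtain ⟨φ⟩ := stab_iso F hF
  refine ⟨((MulEquiv.subgroupCongr e).trans ?_).trans φ⟩
  exact ((MulAut.conj (g * a)).subgroupMap _).trans
    (MulEquiv.subgroupCongr (Subgroup.map_comap_eq_self_of_surjective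
      (MulAut.conj (g * a)).surjective _))

end CfsgLib.LocalEvenB.CoTwoUnitary
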