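import Cfsg.Agent.Lib.LocalEvenB.CoTwoUnitary.CheckTrans
import Cfsg.Agent.Lib.Classical.Unitary.MatrixStructure
import Cfsg.Agent.Lib.Classical.Unitary.Two

/-!
# PSU₆(2) on totally isotropic planes
-/

set_option autoImplicit false

namespace CfsgLib.LocalEvenB.CoTwoUnitary

open scoped Matrix

/-- The matrix of an element. -/
def mat {F : Type*} [Field F] (g : Cfsg.SU 6 F 2) : Matrix (Fin 6) (Fin 6) F :=
  ((g : Matrix.SpecialLinearGroup (Fin 6) F) : Matrix (Fin 6) (Fin 6) F)

theorem mat_mul {F : Type*} [Field F] (g h : Cfsg.SU 6 F 2) : mat (g * h) = mat g * mat h := rfl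

theorem mat_one {F : Type*} [Field F] : mat (1 : Cfsg.SU 6 F 2) = 1 := rfl

theorem mat_inj {F : Type*} [Field F] : Function.Injective (mat (F := F)) :=
  fun _ _ h => Subtype.ext (Subtype.ext h)

theorem mat_preserves {F : Type*} [Field F] (g : Cfsg.SU 6 F 2) (u v : Fin 6 → F) :
    Cfsg.hermForm 6 F 2 (mat g *ᵥ u) (mat g *ᵥ v) = Cfsg.hermForm 6 F 2 u v := g.2 u v

theorem trans_ok (k : Fin 6) (a : Fin 891) : transOK k.val a.val = true := by
  have ha := List.mem_range.2 a.isLt
  fin_cases k
  · exact List.all_eq_true.1 trans_zero a.val ha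
  · exact List.all_eq_true.1 trans_one a.val ha
  · exact List.all_eq_true.1 trans_two a.val ha
  · exact List.all_eq_true.1 trans_three a.val ha
  · exact List.all_eq_true.1 trans_four a.val ha
  · exact List.all_eq_true.1 trans_five a.val ha

/-- A point of a permutation table. -/
def tab (k : Fin 6) (a : Fin 891) : Fin 891 :=
  ⟨permAt k.val a.val, by
    have h := trans_ok k a
    simp only [transOK, Bool.and_eq_true, decide_eq_true_eq] at h
    exact h.1⟩

/-- A plane. -/
def plane {F : Type*} [Field F] (r : F) (a : Fin 891) : Submodule F (Fin 6 → F) :=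
  Submodule.span F {toV r (look planeAChunks a.val), toV r (look planeBChunks a.val),
    toV r (look planeCChunks a.val)}

/-- The set of planes. -/
def Plane {F : Type*} [Field F] (r : F) : Type _ := Set.range (plane r)

/-- The plane with a label. -/
def lab {F : Type*} [Field F] (r : F) (a : Fin 891) : Plane r := ⟨plane r a, a, rfl⟩

theorem lab_surjective {F : Type*} [Field F] (r : F) : Function.Surjective (lab r) :=
  fun x => by
    obtain ⟨a, ha⟩ := x.2
    exact ⟨a, Subtype.ext ha⟩

variable {F : Type*} [Field F] [Fintype F] [CharP F 2] {r : F} (hr : r ^ 2 + r + 1 = 0)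
  (hF : Fintype.card F = 4)
include hr hF

omit [Fintype F] hF in
theorem form_toV (u v : ℕ) : dec r (herm u v) = Cfsg.hermForm 6 F 2 (toV r u) (toV r v) := by
  rw [dec_herm hr, Cfsg.hermForm, Fin.sum_univ_six]

/-- The transvections. -/
theorem exists_gen (k : Fin 6) : ∃ g : Cfsg.SU 6 F 2,
    mat g = Cfsg.unitaryTransvection 6 2 (toV r (genVec.getD k.val 0)) 1 := by
  have hF2 : Fintype.card F = 2 ^ 2 := hF
  have hv : Cfsg.hermForm 6 F 2 (toV r (genVec.getD k.val 0)) (toV r (genVec.getD k.val 0)) = 0 := by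
    rw [← form_toV hr, gen_ok.1 k.val k.isLt, dec_zero hr]
  exact ⟨_, CfsgLib.Classical.Herm.suEquiv_symm_tr hF2 hv (c := (1 : F))
    (by rw [map_one]; linear_combination two_zero hr)⟩

/-- A transvection among the generators. -/
noncomputable def gen (k : Fin 6) : Cfsg.SU 6 F 2 := (exists_gen hr hF k).choose

theorem mat_gen (k : Fin 6) : mat (gen hr hF k) =
    Cfsg.unitaryTransvection 6 2 (toV r (genVec.getD k.val 0)) 1 :=
  (exists_gen hr hF k).choose_spec

theorem gen_apply (k : Fin 6) (x : ℕ) (i : Fin 6) :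
    (mat (gen hr hF k) *ᵥ toV r x) i =
      dec r (transv (genVec.getD k.val 0) (herm x (genVec.getD k.val 0)) x i.val) := by
  rw [mat_gen, CfsgLib.Classical.Herm.unitaryTransvection_mulVec (show Fintype.card F = 2 ^ 2 from hF),
    CfsgLib.Classical.Herm.hermStd_apply, ← form_toV hr, transv, dec_fadd hr, dec_fmul hr, one_mul]
  rfl

/-- The group generated by the transvections. -/
noncomputable def gens : Subgroup (Cfsg.SU 6 F 2) := Subgroup.closure (Set.range (gen hr hF))

theorem point_orbit : ∀ x < 693, ∃ g ∈ gens hr hF, ∃ a : F, a ≠ 0 ∧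
    mat g *ᵥ toV r (look pointsChunks root) = a • toV r (look pointsChunks x) := by
  suffices H : ∀ d, ∀ x < 693, look rankChunks x = d → ∃ g ∈ gens hr hF, ∃ a : F, a ≠ 0 ∧
      mat g *ᵥ toV r (look pointsChunks root) = a • toV r (look pointsChunks x) from
    fun x hx => H _ x hx rfl
  intro d
  induction d using Nat.strong_induction_on with
  | _ d ih =>
    intro x hx hd
    have h := List.all_eq_true.1 edges_ok x (List.mem_range.2 hx)
    simp only [edgeOK, Bool.or_eq_true, beq_iff_eq, Bool.and_eq_true, decide_eq_true_eq,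
      bne_iff_ne, List.all_eq_true, List.mem_range] at h
    rcases h with rfl | ⟨⟨⟨⟨⟨hrk, hk⟩, hq⟩, hne⟩, hlt⟩, he⟩
    · exact ⟨1, one_mem _, 1, one_ne_zero, by rw [mat_one, Matrix.one_mulVec, one_smul]⟩
    · obtain ⟨g, hg, a, ha, hga⟩ := ih _ (hd ▸ hrk) _ hq rfl
      refine ⟨gen hr hF ⟨_, hk⟩ * g, mul_mem (Subgroup.subset_closure ⟨_, rfl⟩) hg,
        a * dec r (look parentScalChunks x), mul_ne_zero ha (fun h0 => hne (dec_inj hr hlt
          (by norm_num) (by rw [h0, dec_zero hr]))), ?_⟩
      rw [mat_mul, ← Matrix.mulVec_mulVec, hga, Matrix.mulVec_smul, ← smul_smul]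
      congr 1
      funext i
      rw [gen_apply, he i.val i.isLt, dec_fmul hr]
      rfl

omit hr in
theorem cube_eq_one {a : F} (ha : a ≠ 0) : a ^ 3 = 1 := by
  have h := FiniteField.pow_card_sub_one_eq_one a ha
  rwa [hF] at h

theorem gens_top : gens hr hF = ⊤ := by
  classical
  have hF2 : Fintype.card F = 2 ^ 2 := hF
  rw [eq_top_iff, ← CfsgLib.Classical.Herm.su_closure_transvections hF2 6 (by norm_num)
    (by norm_num), Subgroup.closure_le]
  rintro A ⟨v, c, hv, hA⟩
  change mat A = _ at hA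
  rw [SetLike.mem_coe]
  by_cases hv0 : v = 0
  · have : A = 1 := mat_inj (by rw [hA, hv0, mat_one]; simp [Cfsg.unitaryTransvection])
    rw [this]; exact one_mem _
  rcases eq_or_ne c 0 with rfl | hc0
  · have : A = 1 := mat_inj (by rw [hA, mat_one]; simp [Cfsg.unitaryTransvection])
    rw [this]; exact one_mem _
  have hc : c = 1 := by
    obtain ⟨i, hi⟩ := Function.ne_iff.1 hv0
    obtain ⟨f, hf⟩ : ∃ f : Fin 6 → F, Cfsg.hermForm 6 F 2 f v = 1 := by
      refine ⟨Pi.single i (v i ^ 2)⁻¹, ?_⟩
      rw [Cfsg.hermForm, Finset.sum_eq_single i (fun j _ hj => by simp [hj]) (by simp)]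
      simp [inv_mul_cancel₀ (pow_ne_zero 2 (show v i ≠ 0 from hi))]
    have hf' : Cfsg.hermForm 6 F 2 v f = 1 := by
      have h := (CfsgLib.Classical.Herm.hermStd_isHerm (n := 6) hF2).symm v f
      rw [CfsgLib.Classical.Herm.hermStd_apply, CfsgLib.Classical.Herm.hermStd_apply, hf,
        map_one] at h
      exact h.symm
    have h := mat_preserves A f f
    rw [hA, CfsgLib.Classical.Herm.unitaryTransvection_mulVec hF2,
      CfsgLib.Classical.Herm.hermStd_apply, hf, mul_one] at h
    have : Fact (Nat.Prime 2) := ⟨by norm_num⟩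
    have e : ∀ (x y : Fin 6 → F) (a b : F), Cfsg.hermForm 6 F 2 (x + a • y) (x + b • y) =
        Cfsg.hermForm 6 F 2 x x + b ^ 2 * Cfsg.hermForm 6 F 2 x y +
          a * Cfsg.hermForm 6 F 2 y x + a * b ^ 2 * Cfsg.hermForm 6 F 2 y y := fun x y a b => by
      simp only [Cfsg.hermForm, Pi.add_apply, Pi.smul_apply, smul_eq_mul, add_pow_char, mul_pow,
        Finset.mul_sum, ← Finset.sum_add_distrib]
      exact Finset.sum_congr rfl fun j _ => by ring
    rw [e, hv, hf, hf'] at h
    refine mul_left_cancel₀ hc0 ?_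
    linear_combination h - c * two_zero hr
  subst hc
  -- normalise the vector
  obtain ⟨i0, hi0, hlow⟩ : ∃ i : Fin 6, v i ≠ 0 ∧ ∀ j < i, v j = 0 := by
    obtain ⟨i, hi, hmin⟩ := (Finset.univ.filter fun i => v i ≠ 0).exists_min_image id
      (by obtain ⟨i, hi⟩ := Function.ne_iff.1 hv0
          exact ⟨i, Finset.mem_filter.2 ⟨Finset.mem_univ _, hi⟩⟩)
    refine ⟨i, (Finset.mem_filter.1 hi).2, fun j hj => by_contra fun h => ?_⟩
    exact absurd (hmin j (Finset.mem_filter.2 ⟨Finset.mem_univ _, h⟩)) (not_le.2 hj)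
  choose d hd4 hd using fun j => dec_surjective hr hF ((v i0)⁻¹ * v j)
  set code := d 0 + 4 * d 1 + 16 * d 2 + 64 * d 3 + 256 * d 4 + 1024 * d 5 with hcode
  have hent : ∀ j : Fin 6, ent code j.val = d j := by
    have := hd4 0; have := hd4 1; have := hd4 2; have := hd4 3; have := hd4 4; have := hd4 5
    intro j
    fin_cases j <;> simp [ent, hcode] <;> omega
  have hw : toV r code = (v i0)⁻¹ • v := funext fun j => by rw [toV, hent, hd]; rfl
  have hd0 : ∀ j < i0, d j = 0 := fun j hj => dec_inj hr (hd4 j) (by norm_num)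
    (by rw [hd, hlow j hj, mul_zero, dec_zero hr])
  have hd1 : d i0 = 1 := dec_inj hr (hd4 _) (by norm_num)
    (by rw [hd, inv_mul_cancel₀ hi0, dec_one hr])
  have hnorm : normalised code = true := by
    have e0 : ent code 0 = d 0 := hent 0
    have e1 : ent code 1 = d 1 := hent 1
    have e2 : ent code 2 = d 2 := hent 2
    have e3 : ent code 3 = d 3 := hent 3
    have e4 : ent code 4 = d 4 := hent 4
    have e5 : ent code 5 = d 5 := hent 5
    unfold normalised
    rw [e0, e1, e2, e3, e4, e5]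
    fin_cases i0
    · simp [show d 0 = 1 from hd1]
    · simp [show d 0 = 0 from hd0 0 (by decide), show d 1 = 1 from hd1]
    · simp [show d 0 = 0 from hd0 0 (by decide), show d 1 = 0 from hd0 1 (by decide),
        show d 2 = 1 from hd1]
    · simp [show d 0 = 0 from hd0 0 (by decide), show d 1 = 0 from hd0 1 (by decide),
        show d 2 = 0 from hd0 2 (by decide), show d 3 = 1 from hd1]
    · simp [show d 0 = 0 from hd0 0 (by decide), show d 1 = 0 from hd0 1 (by decide),
        show d 2 = 0 from hd0 2 (by decide), show d 3 = 0 from hd0 3 (by decide),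
        show d 4 = 1 from hd1]
    · simp [show d 0 = 0 from hd0 0 (by decide), show d 1 = 0 from hd0 1 (by decide),
        show d 2 = 0 from hd0 2 (by decide), show d 3 = 0 from hd0 3 (by decide),
        show d 4 = 0 from hd0 4 (by decide), show d 5 = 1 from hd1]
  have hiso : herm code code = 0 := by
    refine dec_inj hr ?_ (by norm_num) ?_
    · unfold herm fadd; omega
    · rw [form_toV hr, hw, dec_zero hr]
      rw [Cfsg.hermForm] at hv ⊢
      simp only [Pi.smul_apply, smul_eq_mul, mul_pow]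
      calc ∑ j, (v i0)⁻¹ * v j * ((v i0)⁻¹ ^ 2 * v j ^ 2)
          = (v i0)⁻¹ ^ 3 * ∑ j, v j * v j ^ 2 := by
            rw [Finset.mul_sum]; exact Finset.sum_congr rfl fun j _ => by ring
        _ = 0 := by rw [hv, mul_zero]
  have hcl : code < 4096 := by
    have := hd4 0; have := hd4 1; have := hd4 2; have := hd4 3; have := hd4 4; have := hd4 5; omega
  have hmem := List.all_eq_true.1 points_complete code (List.mem_range.2 hcl)
  simp only [hnorm, hiso, beq_self_eq_true, Bool.and_self, Bool.not_true, Bool.false_or,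
    List.any_eq_true, List.contains_iff_mem] at hmem
  obtain ⟨l, hl, hmem⟩ := hmem
  obtain ⟨cI, hcI, rfl⟩ := List.mem_iff_getElem.1 hl
  obtain ⟨xI, hxI, hxe⟩ := List.mem_iff_getElem.1 hmem
  have hcI' : cI < 21 := points_find.2 ▸ hcI
  have hlen : (pointsChunks[cI]).length = 33 := by
    have := List.all_eq_true.1 points_find.1 cI (List.mem_range.2 hcI')
    rwa [List.getD_eq_getElem _ _ hcI, beq_iff_eq] at this
  have hxI' : xI < 33 := lt_of_lt_of_eq hxI hlen
  obtain ⟨x, hx⟩ : ∃ x, x = 33 * cI + xI := ⟨_, rfl⟩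
  have hlook : look pointsChunks x = code := by
    rw [look, show x / 33 = cI by omega, show x % 33 = xI by omega, List.getD_eq_getElem _ _ hcI,
      List.getD_eq_getElem _ _ hxI, hxe]
  obtain ⟨g, hg, a, ha, hga⟩ := point_orbit hr hF x (by omega)
  rw [hlook, hw, smul_smul] at hga
  set b := a * (v i0)⁻¹ with hb
  have hb0 : b ≠ 0 := mul_ne_zero ha (inv_ne_zero hi0)
  have hconj : mat (g * gen hr hF 0 * g⁻¹) = Cfsg.unitaryTransvection 6 2 v (b ^ 3) := by
    have hgg : mat g * mat g⁻¹ = 1 := by rw [← mat_mul, mul_inv_cancel, mat_one]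
    rw [← Matrix.toLin'.injective.eq_iff]
    refine LinearMap.ext fun y => ?_
    rw [Matrix.toLin'_apply, Matrix.toLin'_apply, mat_mul, mat_mul, ← Matrix.mulVec_mulVec,
      ← Matrix.mulVec_mulVec, mat_gen,
      CfsgLib.Classical.Herm.unitaryTransvection_mulVec hF2,
      CfsgLib.Classical.Herm.unitaryTransvection_mulVec hF2,
      CfsgLib.Classical.Herm.hermStd_apply, CfsgLib.Classical.Herm.hermStd_apply, one_mul,
      show ((0 : Fin 6) : ℕ) = 0 from rfl, gen_ok.2.1, Matrix.mulVec_add, Matrix.mulVec_mulVec,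
      hgg, Matrix.one_mulVec, Matrix.mulVec_smul, hga]
    congr 1
    rw [← mat_preserves g (mat g⁻¹ *ᵥ y) (toV r (look pointsChunks root)), Matrix.mulVec_mulVec,
      hgg, Matrix.one_mulVec, hga, smul_smul]
    congr 1
    simp only [Cfsg.hermForm, Pi.smul_apply, smul_eq_mul, mul_pow, Finset.mul_sum,
      Finset.sum_mul]
    exact Finset.sum_congr rfl fun j _ => by ring
  have : A = g * gen hr hF 0 * g⁻¹ := mat_inj (by rw [hA, hconj, cube_eq_one hF hb0])
  rw [this]
  exact mul_mem (mul_mem hg (Subgroup.subset_closure ⟨0, rfl⟩)) (inv_mem hg)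

theorem gen_plane_le (k : Fin 6) (a : Fin 891) :
    (plane r a).map (Matrix.mulVecLin (mat (gen hr hF k))) ≤ plane r (tab k a) := by
  have h := trans_ok k a
  simp only [transOK, Bool.and_eq_true, decide_eq_true_eq, List.all_eq_true, List.mem_range,
    beq_iff_eq] at h
  rw [plane, Submodule.map_span, Submodule.span_le]
  rintro _ ⟨y, hy, rfl⟩
  rw [Matrix.mulVecLin_apply, SetLike.mem_coe, plane, Submodule.mem_span_triple]
  rcases hy with rfl | rfl | rfl
  · exact ⟨_, _, _, funext fun i => by rw [gen_apply, (h.2 i.val i.isLt).1.1, toV_comb hr]; rfl⟩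
  · exact ⟨_, _, _, funext fun i => by rw [gen_apply, (h.2 i.val i.isLt).1.2, toV_comb hr]; rfl⟩
  · exact ⟨_, _, _, funext fun i => by rw [gen_apply, (h.2 i.val i.isLt).2, toV_comb hr]; rfl⟩

omit [CharP F 2] hr in
/-- A transvection is an involution, so it maps a plane onto its image. -/
theorem transvection_sq (h2 : (2 : F) = 0) {v : Fin 6 → F}
    (hv : Cfsg.hermForm 6 F 2 v v = 0) (y : Fin 6 → F) :
    Cfsg.unitaryTransvection 6 2 v (1 : F) *ᵥ (Cfsg.unitaryTransvection 6 2 v (1 : F) *ᵥ y) = y := by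
  have hF2 : Fintype.card F = 2 ^ 2 := hF
  have hvv : CfsgLib.Classical.Herm.hermStd 6 hF2 v v = 0 := hv
  simp only [CfsgLib.Classical.Herm.unitaryTransvection_mulVec hF2, map_add, map_smulₛₗ,
    smul_eq_mul, one_mul, hvv, RingHom.id_apply, mul_zero, add_zero]
  rw [add_assoc, ← add_smul]
  rw [show (CfsgLib.Classical.Herm.hermStd 6 hF2 v) y + (CfsgLib.Classical.Herm.hermStd 6 hF2 v) y
    = 0 by linear_combination (CfsgLib.Classical.Herm.hermStd 6 hF2 v) y * h2, zero_smul, add_zero]

theorem gen_sq (k : Fin 6) : gen hr hF k * gen hr hF k = 1 := by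
  refine mat_inj ?_
  rw [mat_mul, mat_one, mat_gen, ← Matrix.toLin'.injective.eq_iff]
  refine LinearMap.ext fun y => ?_
  rw [Matrix.toLin'_apply, Matrix.toLin'_apply, Matrix.one_mulVec, ← Matrix.mulVec_mulVec,
    transvection_sq hF (two_zero hr)]
  rw [← form_toV hr, gen_ok.1 k.val k.isLt, dec_zero hr]

theorem gen_plane (k : Fin 6) (a : Fin 891) (hinv : tab k (tab k a) = a) :
    (plane r a).map (Matrix.mulVecLin (mat (gen hr hF k))) = plane r (tab k a) := by
  refine le_antisymm (gen_plane_le hr hF k a) ?_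
  have h := Submodule.map_mono (f := Matrix.mulVecLin (mat (gen hr hF k))) (gen_plane_le hr hF k (tab k a))
  rw [hinv, ← Submodule.map_comp, ← Matrix.mulVecLin_mul, ← mat_mul, gen_sq, mat_one,
    Matrix.mulVecLin_one, Submodule.map_id] at h
  exact h

end CfsgLib.LocalEvenB.CoTwoUnitary
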